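import Groth.Agent.FibDim.Semicont
import Groth.Agent.FibDim.BaseChange
import Groth.Agent.FibDim.Minimal
import Groth.Agent.MorLib.LimExists
import Mathlib.AlgebraicGeometry.AffineTransitionLimit

/-!
The dimension of the fibres of a limit of morphisms is reached at a stage.
-/

set_option autoImplicit false
set_option linter.style.haveILetI false
set_option backward.isDefEq.respectTransparency false
set_option backward.isDefEq.respectTransparency.types false

universe u

open CategoryTheory CategoryTheory.Limits AlgebraicGeometry TopologicalSpace Opposite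

namespace Groth.Agent.LimDimStage

open Groth.Agent

theorem exists_map_specResidueField {A B : Scheme.{u}} (f : A ⟶ B) (a : A) (b : B) (h : f a = b) :
    ∃ m : Spec (A.residueField a) ⟶ Spec (B.residueField b),
      m ≫ B.fromSpecResidueField b = A.fromSpecResidueField a ≫ f := by
  subst h
  exact ⟨_, f.SpecMap_residueFieldMap_fromSpecResidueField a⟩

/-- A compatible family of points of a cofiltered system comes from the limit. -/
theorem exists_point_of_compatible {J : Type u} [SmallCategory J] [IsCofiltered J] (E : J ⥤ Scheme.{u})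
    (c : Cone E) (hc : IsLimit c) (u : ∀ j, ↥(E.obj j))
    (hu : ∀ (j k : J) (f : j ⟶ k), E.map f (u j) = u k) :
    ∃ z : ↥c.pt, ∀ j, c.π.app j z = u j := by
  let ι : ∀ j, Spec ((E.obj j).residueField (u j)) ⟶ E.obj j := fun j => (E.obj j).fromSpecResidueField (u j)
  choose m hm using fun (j k : J) (f : j ⟶ k) => exists_map_specResidueField (E.map f) _ _ (hu j k f)
  let Y : J ⥤ Scheme.{u} :=
    { obj := fun j => Spec ((E.obj j).residueField (u j))
      map := fun {j k} f => m j k f
      map_id := fun j => by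
        refine (cancel_mono (ι j)).1 ?_
        exact (hm j j (𝟙 j)).trans (by simp [ι])
      map_comp := fun {i j k} f g => by
        refine (cancel_mono (ι k)).1 ((hm i k (f ≫ g)).trans ?_)
        refine Eq.trans ?_ (Category.assoc _ _ _).symm
        refine Eq.trans ?_ (congrArg (m i j f ≫ ·) (hm j k g)).symm
        rw [reassoc_of% (hm i j f), ← E.map_comp] }
  let τ : Y ⟶ E := { app := ι, naturality := fun j k f => hm j k f }
  haveI : ∀ j, IsAffine (Y.obj j) := fun j => inferInstanceAs (IsAffine (Spec _))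
  haveI : ∀ {j k} (f : j ⟶ k), IsAffineHom (Y.map f) := fun f => inferInstance
  haveI : ∀ j, Nonempty ↥(Y.obj j) := fun j =>
    inferInstanceAs (Nonempty ↥(Spec ((E.obj j).residueField (u j))))
  haveI : HasLimit Y := MorLib.LimExists.hasLimit_of_isAffine Y
  let cY : Cone Y := limit.cone Y
  let hcY : IsLimit cY := limit.isLimit Y
  obtain ⟨y⟩ := Scheme.nonempty_of_isLimit Y cY hcY
  refine ⟨hc.lift ((Cone.postcompose τ).obj cY) y, fun j => ?_⟩
  refine (Scheme.Hom.comp_apply _ _ _).symm.trans ?_
  rw [hc.fac]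
  exact Scheme.fromSpecResidueField_apply (X := E.obj j) (u j) _

theorem rd_closedImmersion_comp {A B T : Scheme.{u}} (j : A ⟶ B) [IsPreimmersion j] [LocallyOfFiniteType j]
    (q : B ⟶ T) [LocallyOfFiniteType q] (a : A) : FibDim.rd (j ≫ q) a = FibDim.rd q (j a) := by
  have h0 : FibDim.rd j a = 0 := by
    have := FibDim.rd_eq_rdeg j a
    rw [VarDim.rdeg_preimmersion] at this
    exact_mod_cast this
  rw [FibDim.rd_comp, h0, add_zero]

/-- A limit of closed immersions, affine case. -/
theorem isClosedImmersion_π_app_aux {K : Type u} [SmallCategory K] [IsCofiltered K] (E : K ⥤ Scheme.{u})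
    (c : Cone E) (hc : IsLimit c) [∀ j, IsAffine (E.obj j)]
    (hcl : ∀ (i j : K) (a : i ⟶ j), IsClosedImmersion (E.map a)) (k : K) : IsClosedImmersion (c.π.app k) := by
  haveI : ∀ {i j : K} (a : i ⟶ j), IsAffineHom (E.map a) := fun a => inferInstance
  haveI : IsAffine c.pt := Scheme.isAffine_of_isLimit _ hc
  obtain ⟨hΓ⟩ := nonempty_isColimit_Γ_mapCocone E c hc
  haveI : IsAffine (((Functor.const K).obj c.pt).obj k) := ‹IsAffine c.pt›
  refine IsClosedImmersion.of_surjective_of_isAffine _ fun s => ?_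
  obtain ⟨j, r, hr⟩ := Concrete.isColimit_exists_rep _ hΓ s
  obtain ⟨l, a, b, -⟩ := IsCofilteredOrEmpty.cone_objs j.unop k
  haveI := hcl _ _ b
  obtain ⟨-, hsurj⟩ := IsClosedImmersion.isAffine_surjective_of_isAffine (E.map b)
  obtain ⟨q, hq⟩ := hsurj ((E.map a).appTop r)
  refine ⟨q, ?_⟩
  rw [← c.w b, Scheme.Hom.comp_appTop, ← hr]
  refine Eq.trans (congrArg (fun x => (c.π.app l).appTop x) hq) ?_
  refine Eq.trans ?_ (congrArg (fun f : c.pt ⟶ E.obj j.unop => f.appTop r) (c.w a))
  rw [Scheme.Hom.comp_appTop]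
  rfl

/-- A projection from a cofiltered limit of closed immersions is a closed immersion. -/
theorem isClosedImmersion_π_app {K : Type u} [SmallCategory K] [IsCofiltered K] (E : K ⥤ Scheme.{u})
    (c : Cone E) (hc : IsLimit c)
    (hcl : ∀ (i j : K) (a : i ⟶ j), IsClosedImmersion (E.map a)) (k : K) : IsClosedImmersion (c.π.app k) := by
  haveI : ∀ {i j : K} (a : i ⟶ j), IsAffineHom (E.map a) := fun a => inferInstance
  refine (IsZariskiLocalAtTarget.iff_of_iSup_eq_top (P := @IsClosedImmersion) _
    (iSup_affineOpens_eq_top (E.obj k))).2 fun U => ?_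
  haveI : ∀ j, IsAffine ((opensDiagram E k U.1).obj j) := fun j => U.2.preimage _
  have hcl' : ∀ (i j : Over k) (a : i ⟶ j), IsClosedImmersion ((opensDiagram E k U.1).map a) := by
    intro i j a
    show IsClosedImmersion ((E.map a.left).resLE _ _ _)
    have e : E.map i.hom ⁻¹ᵁ U.1 = E.map a.left ⁻¹ᵁ (E.map j.hom ⁻¹ᵁ U.1) := by
      rw [← Scheme.Hom.comp_preimage, ← E.map_comp, Over.w a]
    have key : ∀ (V : (E.obj i.left).Opens) (h : V = E.map a.left ⁻¹ᵁ (E.map j.hom ⁻¹ᵁ U.1)),
        IsClosedImmersion ((E.map a.left).resLE (E.map j.hom ⁻¹ᵁ U.1) V h.le) := by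
      rintro V rfl
      haveI := hcl _ _ a.left
      rw [Scheme.Hom.resLE_eq_morphismRestrict]
      exact IsZariskiLocalAtTarget.restrict (hcl _ _ a.left) _
    exact key _ e
  have h := isClosedImmersion_π_app_aux _ _ (isLimitOpensCone E c hc k U.1) hcl' (Over.mk (𝟙 k))
  have key : ∀ (g : E.obj k ⟶ E.obj k) (_ : g = 𝟙 _) (V : (E.obj k).Opens) (e : V = U.1)
      (le : c.π.app k ⁻¹ᵁ U.1 ≤ c.π.app k ⁻¹ᵁ V),
      IsClosedImmersion ((c.π.app k).resLE V _ le) → IsClosedImmersion (c.π.app k ∣_ U.1) := by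
    rintro g - V rfl le hV
    rwa [Scheme.Hom.resLE_eq_morphismRestrict] at hV
  exact key (E.map (𝟙 k)) (E.map_id k) _ (by
    show E.map (𝟙 k) ⁻¹ᵁ U.1 = U.1
    rw [E.map_id]; rfl) _ h

theorem rd_congr {A T : Scheme.{u}} {f g : A ⟶ T} (e : f = g) (a : A) : FibDim.rd f a = FibDim.rd g a := by
  subst e; rfl

variable {I : Type u} [SmallCategory I] [IsCofiltered I]
    (DX DS : I ⥤ Scheme.{u}) (φ : DX ⟶ DS) (cX : Cone DX) (cS : Cone DS)

/-- The base changes of the stages to the limit of the bases. -/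
noncomputable def PP : I ⥤ Scheme.{u} where
  obj i := pullback (φ.app i) (cS.π.app i)
  map {i j} a := pullback.map (φ.app i) (cS.π.app i) (φ.app j) (cS.π.app j) (DX.map a) (𝟙 _) (DS.map a)
    (φ.naturality a).symm (by rw [Category.id_comp]; exact cS.w a)
  map_id i := by
    apply pullback.hom_ext <;> simp
  map_comp a b := by
    apply pullback.hom_ext <;> simp

theorem PP_map_fst {i j : I} (a : i ⟶ j) :
    (PP DX DS φ cS).map a ≫ pullback.fst (φ.app j) (cS.π.app j) = pullback.fst (φ.app i) (cS.π.app i) ≫ DX.map a :=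
  pullback.lift_fst _ _ _

theorem PP_map_snd {i j : I} (a : i ⟶ j) :
    (PP DX DS φ cS).map a ≫ pullback.snd (φ.app j) (cS.π.app j) = pullback.snd (φ.app i) (cS.π.app i) :=
  (pullback.lift_snd _ _ _).trans (Category.comp_id _)

theorem isClosedImmersion_PP
    (hcl : ∀ (i j : I) (a : i ⟶ j), IsClosedImmersion (pullback.lift (DX.map a) (φ.app i) (φ.naturality a)))
    {i j : I} (a : i ⟶ j) : IsClosedImmersion ((PP DX DS φ cS).map a) := by
  let L : DX.obj i ⟶ pullback (φ.app j) (DS.map a) := pullback.lift (DX.map a) (φ.app i) (φ.naturality a)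
  let β : pullback (φ.app j) (cS.π.app j) ⟶ pullback (φ.app j) (DS.map a) :=
    pullback.lift (pullback.fst _ _) (pullback.snd _ _ ≫ cS.π.app i) (by
      rw [Category.assoc, cS.w, pullback.condition])
  have hβ : IsPullback β (pullback.snd (φ.app j) (cS.π.app j)) (pullback.snd (φ.app j) (DS.map a)) (cS.π.app i) := by
    refine IsPullback.of_right ?_ (pullback.lift_snd _ _ _) (IsPullback.of_hasPullback (φ.app j) (DS.map a))
    rw [pullback.lift_fst, cS.w]
    exact IsPullback.of_hasPullback (φ.app j) (cS.π.app j)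
  have hsq : IsPullback (pullback.fst (φ.app i) (cS.π.app i)) ((PP DX DS φ cS).map a) L β := by
    refine IsPullback.of_bot ?_ ?_ hβ
    · rw [PP_map_snd, pullback.lift_snd]
      exact IsPullback.of_hasPullback (φ.app i) (cS.π.app i)
    · apply pullback.hom_ext
      · rw [Category.assoc, pullback.lift_fst, Category.assoc, pullback.lift_fst, PP_map_fst]
      · rw [Category.assoc, pullback.lift_snd, Category.assoc, pullback.lift_snd, ← Category.assoc, PP_map_snd,
          pullback.condition]
  exact MorphismProperty.of_isPullback (P := @IsClosedImmersion) hsq (hcl i j a)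

variable (f : cX.pt ⟶ cS.pt) (hf : ∀ i, f ≫ cS.π.app i = cX.π.app i ≫ φ.app i)

/-- The limit as a cone over the base changes. -/
noncomputable def coneP : Cone (PP DX DS φ cS) where
  pt := cX.pt
  π :=
    { app := fun i => pullback.lift (cX.π.app i) f (hf i).symm
      naturality := fun i j a => by
        refine (Category.id_comp _).trans ?_
        apply pullback.hom_ext
        · rw [pullback.lift_fst, Category.assoc, PP_map_fst, pullback.lift_fst_assoc, cX.w]
        · rw [pullback.lift_snd, Category.assoc, PP_map_snd, pullback.lift_snd] }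

/-- The limit is the limit of the base changes. -/
noncomputable def isLimitConeP (hX : IsLimit cX) (hS : IsLimit cS) : IsLimit (coneP DX DS φ cX cS f hf) := by
  let down : Cone (PP DX DS φ cS) → Cone DX := fun s =>
    { pt := s.pt
      π :=
        { app := fun i => s.π.app i ≫ pullback.fst (φ.app i) (cS.π.app i)
          naturality := fun i j a => by
            refine (Category.id_comp _).trans ?_
            rw [← s.w a, Category.assoc, PP_map_fst, Category.assoc] } }
  have hsnd : ∀ (s : Cone (PP DX DS φ cS)) (i : I),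
      hX.lift (down s) ≫ f = s.π.app i ≫ pullback.snd (φ.app i) (cS.π.app i) := fun s i => by
    refine hS.hom_ext fun j => ?_
    rw [Category.assoc, hf, hX.fac_assoc, Category.assoc]
    show (s.π.app j ≫ pullback.fst (φ.app j) (cS.π.app j)) ≫ φ.app j = _
    obtain ⟨k, a, b, -⟩ := IsCofilteredOrEmpty.cone_objs i j
    rw [Category.assoc, pullback.condition, ← s.w a, ← s.w b]
    simp only [Category.assoc]
    rw [reassoc_of% (PP_map_snd DX DS φ cS a), reassoc_of% (PP_map_snd DX DS φ cS b)]
  exact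
    { lift := fun s => hX.lift (down s)
      fac := fun s i => by
        apply pullback.hom_ext
        · rw [Category.assoc]
          refine (congrArg (hX.lift (down s) ≫ ·) (pullback.lift_fst _ _ _)).trans ?_
          exact hX.fac (down s) i
        · rw [Category.assoc]
          refine (congrArg (hX.lift (down s) ≫ ·) (pullback.lift_snd _ _ _)).trans ?_
          exact hsnd s i
      uniq := fun s m hm => by
        refine hX.hom_ext fun i => ?_
        rw [hX.fac]
        show _ = s.π.app i ≫ pullback.fst (φ.app i) (cS.π.app i)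
        rw [← hm i, Category.assoc]
        exact congrArg (m ≫ ·) (pullback.lift_fst _ _ _).symm }

include hf in
/-- The bound on the dimension of the fibres holds at some stage. -/
theorem exists_stage (hX : IsLimit cX) (hS : IsLimit cS)
    [∀ (i j : I) (a : i ⟶ j), IsAffineHom (DS.map a)] [∀ i, CompactSpace (DS.obj i)]
    [∀ i, LocallyOfFiniteType (φ.app i)] [∀ i, QuasiCompact (φ.app i)]
    (hcl : ∀ (i j : I) (a : i ⟶ j), IsClosedImmersion (pullback.lift (DX.map a) (φ.app i) (φ.naturality a)))
    (d : ℕ) (hd : ∀ s : cS.pt, topologicalKrullDim ↥(f.fiber s) ≤ d) :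
    ∃ i : I, ∀ s : DS.obj i, topologicalKrullDim ↥((φ.app i).fiber s) ≤ d := by
  classical
  by_contra hbad
  push Not at hbad
  have hP : ∀ i, LocallyOfFiniteType (pullback.snd (φ.app i) (cS.π.app i)) := fun i =>
    MorphismProperty.pullback_snd _ _ inferInstance
  haveI hci : ∀ {i j : I} (a : i ⟶ j), IsClosedImmersion ((PP DX DS φ cS).map a) := fun a =>
    isClosedImmersion_PP DX DS φ cS hcl a
  -- the points with fibres of dimension above `d`
  have hwit : ∀ i, ∃ a : DX.obj i, d < FibDim.rd (φ.app i) a := fun i => by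
    by_contra hn
    push Not at hn
    obtain ⟨s, hs⟩ := hbad i
    refine absurd hs (not_lt.2 ?_)
    rw [FibDim.topologicalKrullDim_fiber]
    exact iSup_le fun a => by exact_mod_cast hn a.1
  let E : ∀ i, Set (DX.obj i) := fun i => {a | ((d + 1 : ℕ) : WithBot ℕ∞) ≤ FlatMor.fibreDimAt (φ.app i) a}
  haveI : ∀ {i j : I} (a : i ⟶ j), IsAffineHom (DX.map a) := fun {i j} a => by
    haveI := hcl i j a
    have h : pullback.lift (DX.map a) (φ.app i) (φ.naturality a) ≫ pullback.fst _ _ = DX.map a :=
      pullback.lift_fst _ _ _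
    haveI : IsAffineHom (pullback.fst (φ.app j) (DS.map a)) := MorphismProperty.pullback_fst _ _ inferInstance
    rw [← h]; infer_instance
  have hmono : ∀ {i j : I} (a : i ⟶ j) (x : DX.obj i), FibDim.rd (φ.app i) x ≤ FibDim.rd (φ.app j) (DX.map a x) := by
    intro i j a x
    haveI := hcl i j a
    let L := pullback.lift (DX.map a) (φ.app i) (φ.naturality a)
    have e : L ≫ pullback.snd _ _ = φ.app i := pullback.lift_snd _ _ _
    haveI : LocallyOfFiniteType (pullback.snd (φ.app j) (DS.map a)) := MorphismProperty.pullback_snd _ _ inferInstance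
    rw [← rd_congr e, rd_closedImmersion_comp L]
    refine (FibDim.rd_baseChange_le (IsPullback.of_hasPullback (φ.app j) (DS.map a)) (L x)).trans (le_of_eq ?_)
    rw [← Scheme.Hom.comp_apply, pullback.lift_fst]
  obtain ⟨z, hz⟩ := exists_mem_of_isClosed_of_nonempty DX cX hX E
    (fun i => FibDim.isClosed_le_fibreDimAt _ _)
    (fun i => by
      obtain ⟨a, ha⟩ := hwit i
      exact ⟨a, le_trans (by exact_mod_cast ha) (FibDim.rd_le_fibreDimAt (φ.app i) (specializes_refl a) rfl)⟩)
    (fun i => by
      haveI : CompactSpace (DX.obj i) := QuasiCompact.compactSpace_of_compactSpace (φ.app i)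
      exact (FibDim.isClosed_le_fibreDimAt _ _).isCompact)
    (fun {i j} a x hx => by
      simp only [E, Set.mem_ofPred_eq] at hx ⊢
      obtain ⟨η, hη, hfη, he, -⟩ := FibDim.exists_fibreDimAt_eq (φ.app i) x
      rw [he] at hx
      refine le_trans (le_trans hx (by exact_mod_cast hmono a η)) (FibDim.rd_le_fibreDimAt (φ.app j) (hη.map (DX.map a).continuous) ?_)
      rw [← Scheme.Hom.comp_apply, ← Scheme.Hom.comp_apply, φ.naturality, Scheme.Hom.comp_apply,
        Scheme.Hom.comp_apply, hfη])
  let t := f z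
  let W : ∀ i, Set ((PP DX DS φ cS).obj i) := fun i =>
    {w | pullback.snd (φ.app i) (cS.π.app i) w = t ∧ d < FibDim.rd (pullback.snd (φ.app i) (cS.π.app i)) w}
  have hW : ∀ i, (W i).Nonempty := fun i => by
    obtain ⟨η, -, hfη, he, -⟩ := FibDim.exists_fibreDimAt_eq (φ.app i) (cX.π.app i z)
    have hη := hz i
    simp only [E, Set.mem_ofPred_eq, he] at hη
    obtain ⟨w, -, hwt, hrd⟩ := FibDim.exists_rd_baseChange_eq
      (IsPullback.of_hasPullback (φ.app i) (cS.π.app i)) η t (by
        rw [hfη, ← Scheme.Hom.comp_apply, ← hf i, Scheme.Hom.comp_apply]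
        rfl)
    exact ⟨w, hwt, by rw [hrd]; exact_mod_cast hη⟩
  -- a stage from which the fibres over `t` no longer shrink
  obtain ⟨i₀⟩ := IsCofiltered.nonempty (C := I)
  let q₀ := pullback.snd (φ.app i₀) (cS.π.app i₀)
  haveI : IsLocallyNoetherian (q₀.fiber t) :=
    LocallyOfFiniteType.isLocallyNoetherian (q₀.fiberToSpecResidueField t)
  haveI : QuasiCompact q₀ := MorphismProperty.pullback_snd _ _ inferInstance
  haveI : CompactSpace ↥(q₀.fiber t) := QuasiCompact.compactSpace_of_compactSpace (q₀.fiberToSpecResidueField t)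
  haveI : NoetherianSpace ↥(q₀.fiber t) := by
    haveI : AlgebraicGeometry.IsNoetherian (q₀.fiber t) := {}
    infer_instance
  let C : ∀ {j : I}, (j ⟶ i₀) → Closeds ↥(q₀.fiber t) := fun {j} a =>
    ⟨q₀.fiberι t ⁻¹' Set.range ((PP DX DS φ cS).map a),
      ((PP DX DS φ cS).map a).isClosedEmbedding.isClosed_range.preimage (q₀.fiberι t).continuous⟩
  obtain ⟨_, ⟨⟨k, a₀⟩, rfl⟩, hmin⟩ := wellFounded_lt.has_min
    (Set.range fun p : Σ j, (j ⟶ i₀) => C p.2) ⟨_, ⟨i₀, 𝟙 _⟩, rfl⟩
  obtain ⟨w, hwt, hwd⟩ := hW k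
  have hlift : ∀ l : Over k, ∃ v, (PP DX DS φ cS).map l.hom v = w := by
    intro l
    have hle : C (l.hom ≫ a₀) ≤ C a₀ := fun p hp => by
      obtain ⟨v, hv⟩ := hp
      exact ⟨(PP DX DS φ cS).map l.hom v, by rw [← Scheme.Hom.comp_apply, ← Functor.map_comp]; exact hv⟩
    have heq : C (l.hom ≫ a₀) = C a₀ := hle.eq_of_not_lt (hmin _ ⟨⟨l.left, l.hom ≫ a₀⟩, rfl⟩)
    let u := (PP DX DS φ cS).map a₀ w
    have hu : q₀ u = t := by
      show (((PP DX DS φ cS).map a₀) ≫ pullback.snd (φ.app i₀) (cS.π.app i₀)) w = t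
      rw [PP_map_snd]
      exact hwt
    obtain ⟨p, hp⟩ : u ∈ Set.range (q₀.fiberι t) := by rw [Scheme.Hom.range_fiberι]; exact hu
    have hpC : p ∈ C (l.hom ≫ a₀) := by rw [heq]; exact ⟨w, hp.symm⟩
    obtain ⟨v, hv⟩ := hpC
    refine ⟨v, ((PP DX DS φ cS).map a₀).isEmbedding.injective ?_⟩
    rw [← Scheme.Hom.comp_apply, ← Functor.map_comp]
    exact hv.trans hp
  choose v hv using hlift
  obtain ⟨x, hx⟩ := exists_point_of_compatible (Over.forget k ⋙ PP DX DS φ cS)
    ((coneP DX DS φ cX cS f hf).whisker (Over.forget k))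
    ((Functor.Initial.isLimitWhiskerEquiv (Over.forget k) _).symm (isLimitConeP DX DS φ cX cS f hf hX hS)) v
    (fun l l' b => by
      refine ((PP DX DS φ cS).map l'.hom).isEmbedding.injective ?_
      rw [hv]
      show (PP DX DS φ cS).map l'.hom ((PP DX DS φ cS).map b.left (v l)) = w
      rw [← Scheme.Hom.comp_apply, ← Functor.map_comp, Over.w b, hv])
  have hxk : pullback.lift (cX.π.app k) f (hf k).symm x = w := by
    have h1 := hx (Over.mk (𝟙 k))
    have h2 := hv (Over.mk (𝟙 k))
    rw [← h1] at h2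
    have h3 : (PP DX DS φ cS).map (𝟙 k) = 𝟙 _ := (PP DX DS φ cS).map_id k
    erw [h3] at h2
    exact h2
  let ℓ := pullback.lift (cX.π.app k) f (hf k).symm
  have eℓ : ℓ ≫ pullback.snd (φ.app k) (cS.π.app k) = f := pullback.lift_snd _ _ _
  haveI : IsClosedImmersion ℓ :=
    isClosedImmersion_π_app (PP DX DS φ cS) _ (isLimitConeP DX DS φ cX cS f hf hX hS) (fun i j a => hci a) k
  haveI : LocallyOfFiniteType (ℓ ≫ pullback.snd (φ.app k) (cS.π.app k)) := inferInstance
  haveI : LocallyOfFiniteType f := eℓ ▸ ‹_›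
  haveI : LocallyOfFiniteType ℓ := locallyOfFiniteType_of_comp ℓ (pullback.snd (φ.app k) (cS.π.app k))
  have h1 : d < FibDim.rd f x := by
    rw [← rd_congr eℓ, FibDim.rd_comp]
    refine lt_of_lt_of_le hwd (le_trans (le_of_eq ?_) (Nat.le_add_right _ _))
    rw [show ℓ x = w from hxk]
  have h2 := hd (f x)
  rw [FibDim.topologicalKrullDim_fiber] at h2
  have h3 := (iSup_le_iff.1 h2) ⟨x, rfl⟩
  exact absurd h1 (not_lt.2 (by exact_mod_cast h3))

end Groth.Agent.LimDimStage
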